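import Groth.Agent.HSLib.Samuel
import Groth.Agent.S5765
import Groth.Prelude.Def_EGA4b

/-!
The dimension of a module normally flat along an ideal.
-/

set_option autoImplicit false

universe u

open Filter IsLocalRing Polynomial Groth.Agent.HSLib

namespace Groth.Agent.NFlatDimH4

variable {A : Type u} [CommRing A]

section LocLength

variable (p : Ideal A) [p.IsPrime]

/-- The length of the localization at `p`. -/
noncomputable def L (X : Type u) [AddCommGroup X] [Module A X] : ℕ∞ :=
  Module.length (Localization.AtPrime p) (LocalizedModule p.primeCompl X)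

theorem L_add {X Y Z : Type u} [AddCommGroup X] [Module A X] [AddCommGroup Y] [Module A Y] [AddCommGroup Z]
    [Module A Z] (f : X →ₗ[A] Y) (g : Y →ₗ[A] Z) (hf : Function.Injective f) (hg : Function.Surjective g)
    (h : Function.Exact f g) : L p Y = L p X + L p Z :=
  Module.length_eq_add_of_exact (LocalizedModule.map p.primeCompl f) (LocalizedModule.map p.primeCompl g)
    (LocalizedModule.map_injective p.primeCompl f hf) (LocalizedModule.map_surjective p.primeCompl g hg)
    (LocalizedModule.map_exact p.primeCompl f g h)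

theorem L_congr {X Y : Type u} [AddCommGroup X] [Module A X] [AddCommGroup Y] [Module A Y] (e : X ≃ₗ[A] Y) :
    L p X = L p Y :=
  (LinearEquiv.ofBijective (LocalizedModule.map p.primeCompl e.toLinearMap)
    ⟨LocalizedModule.map_injective p.primeCompl _ e.injective,
      LocalizedModule.map_surjective p.primeCompl _ e.surjective⟩).length_eq

theorem L_subsingleton (X : Type u) [AddCommGroup X] [Module A X] [Subsingleton X] : L p X = 0 :=
  Module.length_eq_zero_iff.2 ⟨fun a b => by
    induction a using LocalizedModule.induction_on with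
    | _ m s =>
      induction b using LocalizedModule.induction_on with
      | _ n t =>
        rw [Subsingleton.elim m 0, Subsingleton.elim n 0, LocalizedModule.zero_mk, LocalizedModule.zero_mk]⟩

theorem L_pi (X : Type u) [AddCommGroup X] [Module A X] : ∀ h : ℕ, L p (Fin h → X) = h * L p X
  | 0 => by rw [L_subsingleton, Nat.cast_zero, zero_mul]
  | h + 1 => by
    rw [L_congr p (Fin.consLinearEquiv A (fun _ : Fin (h + 1) => X)).symm,
      L_add p (LinearMap.inl A X (Fin h → X)) (LinearMap.snd A X _) LinearMap.inl_injective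
        LinearMap.snd_surjective (LinearMap.exact_iff.2 (LinearMap.range_inl _ _ _).symm),
      L_pi X h, Nat.cast_add, Nat.cast_one, add_mul, one_mul, add_comm]

end LocLength

variable (I : Ideal A) (M : Type u) [AddCommGroup M] [Module A M]

/-- The graded pieces. -/
abbrev Pc (i : ℕ) : Type u :=
  ↥(I ^ i • (⊤ : Submodule A M)) ⧸ (I • (⊤ : Submodule A ↥(I ^ i • (⊤ : Submodule A M))))

/-- Their ranks. -/
noncomputable def rk (i : ℕ) : ℕ := Module.finrank (A ⧸ I) (Pc I M i)

/-- The partial sums of the ranks. -/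
noncomputable def H (n : ℕ) : ℕ := ∑ i ∈ Finset.range n, rk I M i

theorem comap_succ (i : ℕ) : (I ^ (i + 1) • (⊤ : Submodule A M)).comap (I ^ i • (⊤ : Submodule A M)).subtype =
    I • (⊤ : Submodule A ↥(I ^ i • (⊤ : Submodule A M))) := by
  refine Submodule.map_injective_of_injective (I ^ i • (⊤ : Submodule A M)).injective_subtype ?_
  rw [Submodule.map_comap_eq, Submodule.range_subtype, Submodule.map_smul'', Submodule.map_top,
    Submodule.range_subtype, pow_succ', mul_smul]
  exact inf_eq_right.2 Submodule.smul_le_right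

theorem exists_equiv [IsNoetherianRing A] [IsLocalRing A] (hI : I ≤ maximalIdeal A) [Module.Finite A M]
    (hM : EGA4.IsNormallyFlat I M) (i : ℕ) : Nonempty (Pc I M i ≃ₗ[A] (Fin (rk I M i) → A ⧸ I)) := by
  haveI : Nontrivial (A ⧸ I) :=
    Ideal.Quotient.nontrivial_iff.2 fun h => (maximalIdeal.isMaximal A).ne_top (top_le_iff.1 (h ▸ hI))
  haveI : IsLocalRing (A ⧸ I) := IsLocalRing.of_surjective' (Ideal.Quotient.mk I) Ideal.Quotient.mk_surjective
  haveI : Module.Finite A ↥(I ^ i • (⊤ : Submodule A M)) := Module.Finite.iff_fg.2 (IsNoetherian.noetherian _)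
  haveI : Module.Finite (A ⧸ I) (Pc I M i) := Module.Finite.of_restrictScalars_finite A _ _
  haveI : Module.Flat (A ⧸ I) (Pc I M i) := hM i
  haveI : Module.Free (A ⧸ I) (Pc I M i) := Module.free_of_flat_of_isLocalRing
  exact ⟨((Module.finBasis (A ⧸ I) (Pc I M i)).equivFun.restrictScalars A)⟩

theorem L_quot_eq [IsNoetherianRing A] [IsLocalRing A] (hI : I ≤ maximalIdeal A) [Module.Finite A M]
    (hM : EGA4.IsNormallyFlat I M) (p : Ideal A) [p.IsPrime] :
    ∀ n, L p (M ⧸ (I ^ n • (⊤ : Submodule A M))) = (H I M n : ℕ∞) * L p (A ⧸ I)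
  | 0 => by
    haveI : Subsingleton (M ⧸ (I ^ 0 • (⊤ : Submodule A M))) := by
      rw [Submodule.Quotient.subsingleton_iff, pow_zero, Ideal.one_eq_top, Submodule.top_smul]
    rw [L_subsingleton, H, Finset.range_zero, Finset.sum_empty, Nat.cast_zero, zero_mul]
  | n + 1 => by
    obtain ⟨e⟩ := exists_equiv I M hI hM n
    have hle : I ^ (n + 1) • (⊤ : Submodule A M) ≤ I ^ n • ⊤ :=
      Submodule.smul_mono (Ideal.pow_le_pow_right n.le_succ) le_rfl
    rw [L_add p (Submodule.mapQ ((I ^ (n + 1) • (⊤ : Submodule A M)).comap (I ^ n • (⊤ : Submodule A M)).subtype)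
        (I ^ (n + 1) • (⊤ : Submodule A M)) (I ^ n • (⊤ : Submodule A M)).subtype le_rfl)
      (Submodule.factor hle) ?_ (Submodule.factor_surjective hle) ?_, L_quot_eq hI hM p n,
      L_congr p ((Submodule.quotEquivOfEq _ _ (comap_succ I M n)).trans e), L_pi, H, H, Finset.sum_range_succ,
      Nat.cast_add, add_mul, add_comm]
    · rw [← LinearMap.ker_eq_bot, Submodule.ker_mapQ, Submodule.mkQ_map_self]
    · intro y
      obtain ⟨m, rfl⟩ := Submodule.Quotient.mk_surjective _ y
      constructor
      · intro h'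
        rw [Submodule.factor, Submodule.mapQ_apply, LinearMap.id_apply, Submodule.Quotient.mk_eq_zero] at h'
        exact ⟨Submodule.Quotient.mk ⟨m, h'⟩, rfl⟩
      · rintro ⟨z, hz⟩
        obtain ⟨⟨k, hk⟩, rfl⟩ := Submodule.Quotient.mk_surjective _ z
        rw [← hz, Submodule.factor, Submodule.mapQ_apply, Submodule.mapQ_apply, LinearMap.id_apply,
          Submodule.Quotient.mk_eq_zero]
        exact hk

theorem length_quot_pow_le [IsNoetherianRing A] [IsLocalRing A] (hI : I ≤ maximalIdeal A) [Module.Finite A M]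
    (hM : EGA4.IsNormallyFlat I M) (n : ℕ) :
    hs (Ring.jacobson A) M n ≤ H I M n * hs (Ring.jacobson A) (A ⧸ I) n := by
  set J := Ring.jacobson A
  have hIJ : I ≤ J := hI.trans (IsLocalRing.ringJacobson_eq_maximalIdeal A).ge
  have key : ∀ i, Module.length A (M ⧸ ((I ^ i • (⊤ : Submodule A M)) ⊔ J ^ n • ⊤)) ≤
      (H I M i : ℕ∞) * Module.length A ((A ⧸ I) ⧸ (J ^ n • (⊤ : Submodule A (A ⧸ I)))) := by
    intro i
    induction i with
    | zero =>
      haveI : Subsingleton (M ⧸ ((I ^ 0 • (⊤ : Submodule A M)) ⊔ J ^ n • ⊤)) := by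
        rw [Submodule.Quotient.subsingleton_iff, pow_zero, Ideal.one_eq_top, Submodule.top_smul, top_sup_eq]
      rw [Module.length_eq_zero]
      exact zero_le
    | succ i ih =>
      have hle : (I ^ (i + 1) • (⊤ : Submodule A M)) ⊔ J ^ n • ⊤ ≤ (I ^ i • ⊤) ⊔ J ^ n • ⊤ :=
        sup_le_sup_right (Submodule.smul_mono (Ideal.pow_le_pow_right i.le_succ) le_rfl) _
      rw [length_quot_eq_add hle, H, Finset.sum_range_succ, Nat.cast_add, add_mul, add_comm]
      refine add_le_add ih ?_
      obtain ⟨e⟩ := exists_equiv I M hI hM i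
      set N₁ := (I ^ i • (⊤ : Submodule A M)) ⊔ J ^ n • ⊤
      set N₂ := (I ^ (i + 1) • (⊤ : Submodule A M)) ⊔ J ^ n • ⊤
      let T := ↥N₁ ⧸ N₂.comap N₁.subtype
      let π : Pc I M i →ₗ[A] T := Submodule.mapQ _ _ (Submodule.inclusion le_sup_left) (by
        rw [← comap_succ]
        exact fun z hz => Submodule.mem_sup_left hz)
      have hπ : Function.Surjective π := by
        intro z
        obtain ⟨⟨z, hz⟩, rfl⟩ := Submodule.Quotient.mk_surjective _ z
        obtain ⟨a, ha, b, hb, rfl⟩ := Submodule.mem_sup.1 hz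
        refine ⟨Submodule.Quotient.mk ⟨a, ha⟩, ?_⟩
        refine (Submodule.Quotient.eq _).2 ?_
        show a - (a + b) ∈ N₂
        rw [sub_add_cancel_left]
        exact neg_mem (Submodule.mem_sup_right hb)
      let χ : (Fin (rk I M i) → A ⧸ I) →ₗ[A] T := π.comp e.symm.toLinearMap
      let X := Fin (rk I M i) → (A ⧸ I) ⧸ (J ^ n • (⊤ : Submodule A (A ⧸ I)))
      let q : (Fin (rk I M i) → A ⧸ I) →ₗ[A] X :=
        LinearMap.pi fun j => (Submodule.mkQ _).comp (LinearMap.proj j)
      have hker : LinearMap.ker q ≤ LinearMap.ker χ := by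
        intro v hv
        have hv' : ∀ j, v j ∈ J ^ n • (⊤ : Submodule A (A ⧸ I)) := fun j =>
          (Submodule.Quotient.mk_eq_zero _).1 (congrFun hv j)
        have hv2 : v ∈ J ^ n • (⊤ : Submodule A (Fin (rk I M i) → A ⧸ I)) := by
          rw [← Finset.univ_sum_single v]
          refine Submodule.sum_mem _ fun j _ => ?_
          have := Submodule.mem_map_of_mem (f := LinearMap.single A (fun _ => A ⧸ I) j) (hv' j)
          rw [Submodule.map_smul''] at this
          exact Submodule.smul_mono le_rfl le_top this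
        rw [LinearMap.mem_ker]
        clear hv hv'
        induction hv2 using Submodule.smul_induction_on' with
        | smul a ha w _ =>
          rw [map_smul]
          obtain ⟨⟨t, ht⟩, htw⟩ := Submodule.Quotient.mk_surjective _ (χ w)
          rw [← htw, ← Submodule.Quotient.mk_smul, Submodule.Quotient.mk_eq_zero]
          exact Submodule.mem_sup_right (Submodule.smul_mem_smul ha trivial)
        | add a _ b _ ha hb => rw [map_add, ha, hb, add_zero]
      have hq : Function.Surjective q := fun w => by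
        choose v hv using fun j => Submodule.mkQ_surjective _ (w j)
        exact ⟨v, funext hv⟩
      let ψ : ((Fin (rk I M i) → A ⧸ I) ⧸ LinearMap.ker q) →ₗ[A] T := (LinearMap.ker q).liftQ χ hker
      have hψ : Function.Surjective ψ := fun z => by
        obtain ⟨w, hw⟩ := (hπ.comp e.symm.surjective) z
        exact ⟨Submodule.Quotient.mk w, hw⟩
      refine (Module.length_le_of_surjective ψ hψ).trans ?_
      rw [(q.quotKerEquivOfSurjective hq).length_eq, Module.length_pi_of_fintype, Finset.sum_const,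
        Finset.card_univ, Fintype.card_fin, nsmul_eq_mul]
  have hN : (I ^ n • (⊤ : Submodule A M)) ⊔ J ^ n • ⊤ = J ^ n • ⊤ :=
    sup_eq_right.2 (Submodule.smul_mono (Ideal.pow_right_mono hIJ n) le_rfl)
  have h1 := key n
  rw [hN] at h1
  have hT : Module.length A ((A ⧸ I) ⧸ (J ^ n • (⊤ : Submodule A (A ⧸ I)))) ≠ ⊤ :=
    length_quot_ne_top (maxSupp_jacobson _) le_rfl
  have h2 := ENat.toNat_le_toNat h1 (WithTop.mul_ne_top (ENat.natCast_ne_top _) hT)
  rwa [ENat.toNat_mul, ENat.toNat_natCast] at h2

section AtPrime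

variable (p : Ideal A) [p.IsPrime]

local notation "Ap" => Localization.AtPrime p

theorem hs_le_L [IsNoetherianRing A] [Module.Finite A M] (hIp : I ≤ p) (n : ℕ)
    (hfin : L p (M ⧸ (I ^ n • (⊤ : Submodule A M))) ≠ ⊤) :
    hs (Ring.jacobson Ap) (LocalizedModule p.primeCompl M) n ≤
      (L p (M ⧸ (I ^ n • (⊤ : Submodule A M)))).toNat := by
  refine ENat.toNat_le_toNat ?_ hfin
  rw [L, ← (localizedQuotientEquiv p.primeCompl (I ^ n • (⊤ : Submodule A M))).length_eq]
  refine Module.length_le_of_surjective (Submodule.factor ?_) (Submodule.factor_surjective _)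
  intro x hx
  obtain ⟨m, hm, s, rfl⟩ := (Submodule.mem_localized' _ _ _ _ _).1 hx
  have h1 : LocalizedModule.mkLinearMap p.primeCompl M m ∈
      Ring.jacobson Ap ^ n • (⊤ : Submodule Ap (LocalizedModule p.primeCompl M)) := by
    refine Submodule.smul_induction_on hm (fun a ha w _ => ?_) fun u v hu hv => by
      rw [map_add]; exact add_mem hu hv
    rw [map_smul, ← algebraMap_smul Ap a]
    refine Submodule.smul_mem_smul ?_ trivial
    rw [IsLocalRing.ringJacobson_eq_maximalIdeal, ← IsLocalization.AtPrime.map_eq_maximalIdeal p Ap,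
      ← Ideal.map_pow]
    exact Ideal.mem_map_of_mem _ (Ideal.pow_right_mono hIp n ha)
  have h2 := Submodule.smul_mem _ (IsLocalization.mk' Ap 1 s) h1
  rwa [show IsLocalization.mk' Ap (1 : A) s • LocalizedModule.mkLinearMap p.primeCompl M m =
    IsLocalizedModule.mk' (LocalizedModule.mkLinearMap p.primeCompl M) m s by
      rw [← IsLocalizedModule.mk'_one p.primeCompl (LocalizedModule.mkLinearMap p.primeCompl M) m,
        IsLocalizedModule.mk'_smul_mk', one_smul, mul_one]] at h2

theorem exists_L_le_hs [IsNoetherianRing A] [Module.Finite A M] (hp : p ∈ I.minimalPrimes) :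
    ∃ c, 1 ≤ c ∧ ∀ n, L p (M ⧸ (I ^ n • (⊤ : Submodule A M))) ≠ ⊤ ∧
      (L p (M ⧸ (I ^ n • (⊤ : Submodule A M)))).toNat ≤
        hs (Ring.jacobson Ap) (LocalizedModule p.primeCompl M) (c * n) := by
  have hrad : Ring.jacobson Ap ≤ (I.map (algebraMap A Ap)).radical := by
    rw [IsLocalRing.ringJacobson_eq_maximalIdeal,
      IsLocalization.AtPrime.radical_map_of_mem_minimalPrimes Ap p I hp, IsLocalization.AtPrime.map_eq_maximalIdeal p Ap]
  obtain ⟨c, hc⟩ := Ideal.exists_pow_le_of_le_radical_of_fg hrad (IsNoetherian.noetherian _)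
  refine ⟨c + 1, Nat.le_add_left 1 c, fun n => ?_⟩
  haveI : Module.Finite Ap (LocalizedModule p.primeCompl M) :=
    Module.Finite.of_isLocalizedModule p.primeCompl (LocalizedModule.mkLinearMap p.primeCompl M)
  have hle : Ring.jacobson Ap ^ ((c + 1) * n) • (⊤ : Submodule Ap (LocalizedModule p.primeCompl M)) ≤
      (I ^ n • (⊤ : Submodule A M)).localized p.primeCompl := by
    refine le_trans (Submodule.smul_mono (le_trans ?_ (Ideal.map_pow (algebraMap A Ap) I n).ge) le_rfl) ?_
    · rw [pow_mul]
      exact Ideal.pow_right_mono ((Ideal.pow_le_pow_right c.le_succ).trans hc) n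
    · rw [Ideal.map, Submodule.smul_le]
      intro r hr z _
      induction hr using Submodule.span_induction with
      | mem r hr =>
        obtain ⟨a, ha, rfl⟩ := hr
        obtain ⟨⟨m, s⟩, rfl⟩ := IsLocalizedModule.mk'_surjective p.primeCompl
          (LocalizedModule.mkLinearMap p.primeCompl M) z
        refine (Submodule.mem_localized' _ _ _ _ _).2 ⟨a • m, Submodule.smul_mem_smul ha trivial, s, ?_⟩
        rw [Function.uncurry_apply_pair, algebraMap_smul, ← IsLocalizedModule.mk'_smul]
      | zero => rw [zero_smul]; exact zero_mem _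
      | add r r' _ _ h1 h2 => rw [add_smul]; exact add_mem h1 h2
      | smul b r _ h1 => rw [smul_eq_mul, mul_smul]; exact Submodule.smul_mem _ b h1
  have hT : Module.length Ap ((LocalizedModule p.primeCompl M) ⧸
      (Ring.jacobson Ap ^ ((c + 1) * n) • (⊤ : Submodule Ap (LocalizedModule p.primeCompl M)))) ≠ ⊤ :=
    length_quot_ne_top (maxSupp_jacobson _) le_rfl
  have h1 : L p (M ⧸ (I ^ n • (⊤ : Submodule A M))) ≤ Module.length Ap ((LocalizedModule p.primeCompl M) ⧸
      (Ring.jacobson Ap ^ ((c + 1) * n) • (⊤ : Submodule Ap (LocalizedModule p.primeCompl M)))) := by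
    rw [L, ← (localizedQuotientEquiv p.primeCompl (I ^ n • (⊤ : Submodule A M))).length_eq]
    exact Module.length_le_of_surjective (Submodule.factor hle) (Submodule.factor_surjective _)
  exact ⟨ne_top_of_le_ne_top hT h1, ENat.toNat_le_toNat h1 hT⟩

end AtPrime

variable [IsNoetherianRing A] [IsLocalRing A] [Module.Finite A M] [Nontrivial M]

theorem mem_support (hI : I ≤ maximalIdeal A) (hM : EGA4.IsNormallyFlat I M) (q : PrimeSpectrum A)
    (hq : I ≤ q.asIdeal) : q ∈ Module.support A M := by
  obtain ⟨e⟩ := exists_equiv I M hI hM 0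
  have hne : Nontrivial (Pc I M 0) := by
    let e0 : ↥(I ^ 0 • (⊤ : Submodule A M)) ≃ₗ[A] M :=
      (LinearEquiv.ofEq _ _ (by rw [pow_zero, Ideal.one_eq_top, Submodule.top_smul])).trans Submodule.topEquiv
    haveI : Nontrivial ↥(I ^ 0 • (⊤ : Submodule A M)) := e0.toEquiv.nontrivial
    exact Submodule.Quotient.nontrivial_iff.2 fun h =>
      Submodule.top_ne_ideal_smul_of_le_jacobson_annihilator (M := ↥(I ^ 0 • (⊤ : Submodule A M)))
        (hI.trans (IsLocalRing.maximalIdeal_le_jacobson _)) h.symm
  have hpos : 0 < rk I M 0 := Nat.pos_of_ne_zero fun h => by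
    rw [h] at e
    haveI := e.toEquiv.subsingleton
    exact false_of_nontrivial_of_subsingleton (Pc I M 0)
  rw [Module.support_eq_zeroLocus, PrimeSpectrum.mem_zeroLocus, SetLike.coe_subset_coe]
  refine le_trans (fun a ha => ?_) hq
  rw [Module.mem_annihilator] at ha
  have h1 : ∀ z : Pc I M 0, a • z = 0 := fun z => by
    obtain ⟨⟨m, hm⟩, rfl⟩ := Submodule.Quotient.mk_surjective _ z
    rw [← Submodule.Quotient.mk_smul, show a • (⟨m, hm⟩ : ↥(I ^ 0 • (⊤ : Submodule A M))) = 0 from
      Subtype.ext (ha m), Submodule.Quotient.mk_zero]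
  have h2 := congrFun ((e.map_smul a (e.symm fun _ => 1)).symm.trans ((congrArg e (h1 _)).trans (map_zero e))) ⟨0, hpos⟩
  rw [LinearEquiv.apply_symm_apply, Pi.smul_apply] at h2
  exact Ideal.Quotient.eq_zero_iff_mem.1 (by simpa [Algebra.smul_def] using h2)

theorem exists_poly_at (hI : I ≤ maximalIdeal A) (hM : EGA4.IsNormallyFlat I M) (p : Ideal A) [p.IsPrime]
    (hp : p ∈ I.minimalPrimes) : ∃ e : ℕ, ∃ R : ℚ[X],
      Module.supportDim (Localization.AtPrime p) (LocalizedModule p.primeCompl M) = (e : WithBot ℕ∞) ∧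
      R.natDegree = e ∧ EvPoly (hs (Ring.jacobson (Localization.AtPrime p)) (LocalizedModule p.primeCompl M)) R := by
  haveI : Nontrivial (LocalizedModule p.primeCompl M) :=
    Module.mem_support_iff.1 (mem_support I M hI hM ⟨p, inferInstance⟩ hp.1.2)
  haveI : Module.Finite (Localization.AtPrime p) (LocalizedModule p.primeCompl M) :=
    Module.Finite.of_isLocalizedModule p.primeCompl (LocalizedModule.mkLinearMap p.primeCompl M)
  obtain ⟨R, hR⟩ := exists_poly_jacobson (A := Localization.AtPrime p) (LocalizedModule p.primeCompl M)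
  exact ⟨_, R, (supportDim_eq _ R hR).symm, rfl, hR⟩

theorem one_le_L_quot (p : Ideal A) [p.IsPrime] (hIp : I ≤ p) : 1 ≤ L p (A ⧸ I) := by
  rw [Order.one_le_iff_pos, L, Module.length_pos_iff]
  refine Module.mem_support_iff.1 (show (⟨p, ‹_›⟩ : PrimeSpectrum A) ∈ Module.support A (A ⧸ I) from ?_)
  rw [Module.support_eq_zeroLocus, Ideal.annihilator_quotient]
  exact hIp

theorem supportDim_eq_add (hM : EGA4.IsNormallyFlat I M) (p : Ideal A) [p.IsPrime] (hp : p ∈ I.minimalPrimes) :
    Module.supportDim A M = ringKrullDim (A ⧸ I) +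
      Module.supportDim (Localization.AtPrime p) (LocalizedModule p.primeCompl M) := by
  have hI : I ≤ maximalIdeal A := hp.1.2.trans (IsLocalRing.le_maximalIdeal ‹p.IsPrime›.ne_top)
  haveI : Nontrivial (A ⧸ I) :=
    Ideal.Quotient.nontrivial_iff.2 fun h => (maximalIdeal.isMaximal A).ne_top (top_le_iff.1 (h ▸ hI))
  obtain ⟨RA, hRA⟩ := exists_poly_jacobson (A := A) (A ⧸ I)
  have hd := HSLib.supportDim_eq (A ⧸ I) RA hRA
  rw [Module.supportDim_quotient_eq_ringKrullDim] at hd
  obtain ⟨RM, hRM⟩ := exists_poly_jacobson (A := A) M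
  have hDM := HSLib.supportDim_eq M RM hRM
  obtain ⟨e, Rp, he, hdeg, hRp⟩ := exists_poly_at I M hI hM p hp
  rw [he, ← hd, ← hDM]
  refine le_antisymm ?_ ?_
  · obtain ⟨c, hc1, hc⟩ := exists_L_le_hs I M p hp
    have h1 : ∀ n, hs (Ring.jacobson A) M n ≤
        hs (Ring.jacobson (Localization.AtPrime p)) (LocalizedModule p.primeCompl M) (c * n) *
          hs (Ring.jacobson A) (A ⧸ I) n := fun n => by
      refine (length_quot_pow_le I M hI hM n).trans (Nat.mul_le_mul_right _ ?_)
      refine le_trans ?_ (hc n).2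
      have hle : (H I M n : ℕ∞) ≤ L p (M ⧸ (I ^ n • (⊤ : Submodule A M))) := by
        rw [L_quot_eq I M hI hM p n]
        exact le_mul_of_one_le_right zero_le (one_le_L_quot I p hp.1.2)
      simpa using ENat.toNat_le_toNat hle (hc n).1
    have hP : EvPoly (fun n => hs (Ring.jacobson (Localization.AtPrime p)) (LocalizedModule p.primeCompl M) (c * n) *
        hs (Ring.jacobson A) (A ⧸ I) n) (Rp.comp (Polynomial.C (c : ℚ) * Polynomial.X) * RA) := by
      filter_upwards [((tendsto_id.const_mul_atTop' (by omega : 0 < c)).eventually hRp), hRA] with n hn1 hn2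
      simp only [id] at hn1
      rw [Nat.cast_mul, hn1, hn2, Polynomial.eval_mul, Polynomial.eval_comp]
      simp
    have h2 := (natDegree_le_of_eventually_le hRM hP (Eventually.of_forall h1)).trans Polynomial.natDegree_mul_le
    rw [Polynomial.natDegree_comp, Polynomial.natDegree_C_mul_X _ (by exact_mod_cast (by omega : c ≠ 0)),
      mul_one, hdeg] at h2
    exact_mod_cast (show RM.natDegree ≤ RA.natDegree + e by omega)
  · obtain ⟨p0, hp0, hdim⟩ : ∃ p0 ∈ I.minimalPrimes, ringKrullDim (A ⧸ I) ≤ ringKrullDim (A ⧸ p0) := by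
      haveI : FiniteRingKrullDim (A ⧸ I) := inferInstance
      obtain ⟨l, hl⟩ : ∃ l : LTSeries (PrimeSpectrum (A ⧸ I)), ringKrullDim (A ⧸ I) = l.length :=
        ⟨_, Order.krullDim_eq_length_of_finiteDimensionalOrder⟩
      have hI0 : I ≤ (l.head.asIdeal.comap (Ideal.Quotient.mk I)) := fun a ha => by
        rw [Ideal.mem_comap, Ideal.Quotient.eq_zero_iff_mem.2 ha]
        exact zero_mem _
      obtain ⟨p0, hp0, hle⟩ := Ideal.exists_minimalPrimes_le (I := I) (J := l.head.asIdeal.comap (Ideal.Quotient.mk I)) hI0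
      haveI := hp0.1.1
      refine ⟨p0, hp0, ?_⟩
      have hge : ∀ i, p0 ≤ ((l i).asIdeal.comap (Ideal.Quotient.mk I)) := fun i =>
        hle.trans (Ideal.comap_mono (l.head_le i))
      let l' : LTSeries (PrimeSpectrum A) :=
        l.map (PrimeSpectrum.comap (Ideal.Quotient.mk I)) fun a b hab =>
          (PrimeSpectrum.asIdeal_lt_asIdeal _ _).1 (lt_of_le_of_ne (Ideal.comap_mono hab.le)
            fun h => hab.ne (PrimeSpectrum.ext (Ideal.comap_injective_of_surjective _ Ideal.Quotient.mk_surjective h)))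
      rw [ringKrullDim_quotient p0, hl]
      let l'' : LTSeries (PrimeSpectrum.zeroLocus (p0 : Set A)) :=
        { length := l.length, toFun := fun i => ⟨l' i, hge i⟩, step := fun i => l'.step i }
      exact le_iSup (fun s : LTSeries (PrimeSpectrum.zeroLocus (p0 : Set A)) => (s.length : WithBot ℕ∞)) l''
    haveI := hp0.1.1
    obtain ⟨e0, R0, he0, hdeg0, hR0⟩ := exists_poly_at I M hI hM p0 hp0
    have hee : e ≤ e0 := by
      obtain ⟨c, hc1, hc⟩ := exists_L_le_hs I M p0 hp0
      obtain ⟨c', hc1', hc'⟩ := exists_L_le_hs I M p hp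
      have hℓ : L p (A ⧸ I) ≠ ⊤ := by
        intro htop
        have h1 := (hc' 1).1
        rw [L_quot_eq I M hI hM p 1, htop] at h1
        refine h1 (WithTop.mul_top ?_)
        intro h0
        have hL := L_quot_eq I M hI hM p 1
        rw [show (H I M 1 : ℕ∞) = 0 from h0, zero_mul] at hL
        have hsub : Subsingleton (LocalizedModule p.primeCompl (M ⧸ (I ^ 1 • (⊤ : Submodule A M)))) :=
          Module.length_eq_zero_iff.1 hL
        have hmem : (⟨p, ‹_›⟩ : PrimeSpectrum A) ∈ Module.support A (M ⧸ (I ^ 1 • (⊤ : Submodule A M))) := by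
          rw [Module.support_quotient, pow_one]
          exact ⟨mem_support I M hI hM _ hp.1.2, hp.1.2⟩
        haveI := Module.mem_support_iff.1 hmem
        exact false_of_nontrivial_of_subsingleton (LocalizedModule p.primeCompl (M ⧸ (I ^ 1 • (⊤ : Submodule A M))))
      obtain ⟨ℓ, hℓ'⟩ := WithTop.ne_top_iff_exists.1 hℓ
      have h1 : ∀ n, hs (Ring.jacobson (Localization.AtPrime p)) (LocalizedModule p.primeCompl M) n ≤
          ℓ * hs (Ring.jacobson (Localization.AtPrime p0)) (LocalizedModule p0.primeCompl M) (c * n) := fun n => by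
        refine (hs_le_L I M p hp.1.2 n (hc' n).1).trans ?_
        rw [L_quot_eq I M hI hM p n, ← hℓ', ENat.toNat_mul, ENat.toNat_natCast, mul_comm]
        refine Nat.mul_le_mul (le_of_eq rfl) (le_trans ?_ (hc n).2)
        have hle : (H I M n : ℕ∞) ≤ L p0 (M ⧸ (I ^ n • (⊤ : Submodule A M))) := by
          rw [L_quot_eq I M hI hM p0 n]
          exact le_mul_of_one_le_right zero_le (one_le_L_quot I p0 hp0.1.2)
        simpa using ENat.toNat_le_toNat hle (hc n).1
      have hP : EvPoly (fun n => ℓ * hs (Ring.jacobson (Localization.AtPrime p0)) (LocalizedModule p0.primeCompl M) (c * n))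
          (Polynomial.C (ℓ : ℚ) * R0.comp (Polynomial.C (c : ℚ) * Polynomial.X)) := by
        filter_upwards [(tendsto_id.const_mul_atTop' (by omega : 0 < c)).eventually hR0] with n hn1
        simp only [id] at hn1
        rw [Nat.cast_mul, hn1, Polynomial.eval_mul, Polynomial.eval_comp]
        simp
      have h2 := (natDegree_le_of_eventually_le hRp hP (Eventually.of_forall h1)).trans (Polynomial.natDegree_C_mul_le _ _)
      rw [Polynomial.natDegree_comp, Polynomial.natDegree_C_mul_X _ (by exact_mod_cast (by omega : c ≠ 0)),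
        mul_one, hdeg, hdeg0] at h2
      exact h2
    have hq : ringKrullDim (A ⧸ p0) = Module.supportDim A (M ⧸ (p0 • (⊤ : Submodule A M))) := by
      have hs' : Module.support A (M ⧸ (p0 • (⊤ : Submodule A M))) = PrimeSpectrum.zeroLocus (p0 : Set A) := by
        rw [Module.support_quotient]
        exact Set.inter_eq_right.2 fun q hq' => mem_support I M hI hM q (hp0.1.2.trans hq')
      rw [ringKrullDim_quotient, Module.supportDim, hs']
    rw [hd, hDM]
    refine le_trans ?_ (S5765.result A M p0)
    rw [he0, ← hq, add_comm]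
    exact add_le_add (by exact_mod_cast hee) hdim

end Groth.Agent.NFlatDimH4
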